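import Cfsg.Agent.Helper62.SC3.Defs2

/-!
# S3331 farm — internal forms of the three types for a subgroup `L ≤ G` (helper62)
-/

set_option autoImplicit false

namespace Cfsg.Agent.Helper62.SC3

universe u

variable {G : Type u} [Group G]

/-- `L` is internally of type (i): a nilpotent `3'`-subgroup `N ⊴ L` of index 3 or 6 containing
every `x`-invariant `3'`-subgroup of `L`. -/
def IntI (S : Setup G) (L : Subgroup G) : Prop :=
  ∃ N : Subgroup G, N ≤ L ∧ L ≤ Subgroup.normalizer (N : Set G) ∧ Group.IsNilpotent ↥N ∧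
    (Nat.card N).Coprime 3 ∧ (Nat.card L = 3 * Nat.card N ∨ Nat.card L = 6 * Nat.card N) ∧
    ∀ B : Subgroup G, B ≤ L → Inv3 S B → B ≤ N

/-- `L` is internally of type (ii): a 2-subgroup `E ⊴ L` with `L/E ≅ A₅`, and the consequences
used in the local analysis. -/
def IntII (S : Setup G) (L : Subgroup G) : Prop :=
  ∃ E : Subgroup G, E ≤ L ∧ L ≤ Subgroup.normalizer (E : Set G) ∧ IsPGroup 2 ↥E ∧ S.t ∈ L ∧
    (∀ D : Subgroup G, D ≤ L → L ≤ Subgroup.normalizer (D : Set G) → (Nat.card D).Coprime 3 →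
      D ≤ E) ∧
    (∀ B : Subgroup G, B ≤ L → Inv3 S B → IsPGroup 2 ↥B) ∧
    (∀ B : Subgroup G, B ≤ L → Inv3 S B → S.t ∈ Subgroup.normalizer (B : Set G) → B ≤ E) ∧
    (∃ T : Subgroup G, T ≤ L ∧ Inv3 S T ∧ E < T)

/-- `L` is internally of type (iii): no nontrivial proper normal subgroup. -/
def IntIII (L : Subgroup G) : Prop :=
  ∀ D : Subgroup G, D ≤ L → L ≤ Subgroup.normalizer (D : Set G) → D = ⊥ ∨ D = L

/-- the local trichotomy for proper subgroups containing `x`. -/
def LocalCases (S : Setup G) : Prop :=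
  ∀ L : Subgroup G, L ≠ ⊤ → S.x ∈ L → IntI S L ∨ IntII S L ∨ IntIII L

/-- the conjugate `t M t⁻¹`. -/
def conjT (S : Setup G) (M : Subgroup G) : Subgroup G :=
  M.map (MulAut.conj S.t).toMonoidHom

end Cfsg.Agent.Helper62.SC3
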