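import Mathlib

/-!
# S3331 (Feit–Thompson: self-centralizing subgroup of order 3) — shared definitions (helper62)

`Concl G` is verbatim the conclusion of S3331; `Hyp G` its hypothesis; `IH n` the induction
hypothesis (all groups of order `< n` in the same universe); `Setup G` the working data of the
main case (`x` of order 3 with `C(x) = ⟨x⟩`, inverted by the involution `t`).
-/

set_option autoImplicit false

namespace Cfsg.Agent.Helper62.SC3

universe u

/-- type (i): nilpotent normal `3'`-subgroup with quotient of order 3 or `≅ S₃`. -/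
def TypeI (G : Type u) [Group G] : Prop :=
  ∃ (N : Subgroup G) (hN : N.Normal), Group.IsNilpotent N ∧ (Nat.card N).Coprime 3 ∧
        (Nat.card (G ⧸ N) = 3 ∨ Nonempty (G ⧸ N ≃* Equiv.Perm (Fin 3)))

/-- type (ii): elementary abelian normal 2-subgroup with quotient `≅ A₅`. -/
def TypeII (G : Type u) [Group G] : Prop :=
  ∃ (N : Subgroup G) (hN : N.Normal), IsMulCommutative N ∧ (∀ n ∈ N, n ^ 2 = 1) ∧
        Nonempty (G ⧸ N ≃* alternatingGroup (Fin 5))

/-- type (iii): `≅ PSL(2,7)`. -/
def TypeIII (G : Type u) [Group G] : Prop :=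
  Nonempty (G ≃* Matrix.ProjectiveSpecialLinearGroup (Fin 2) (ZMod 7))

/-- The conclusion of S3331. -/
def Concl (G : Type u) [Group G] : Prop := TypeI G ∨ TypeII G ∨ TypeIII G

/-- The hypothesis of S3331: a self-centralizing subgroup of order 3. -/
def Hyp (G : Type u) [Group G] : Prop :=
  ∃ X : Subgroup G, Nat.card X = 3 ∧ Subgroup.centralizer (X : Set G) = X

/-- Induction hypothesis: S3331 for all finite groups of order `< n` (same universe). -/
def IH (n : ℕ) : Prop :=
  ∀ (H : Type u) [Group H] [Finite H], Nat.card H < n → Hyp H → Concl H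

/-- Working data of the main case: `x` of order 3 with `C(x) = ⟨x⟩`, and an involution `t`
inverting `x` (so `N(⟨x⟩) = ⟨x, t⟩ ≅ S₃`). -/
structure Setup (G : Type u) [Group G] where
  x : G
  t : G
  hx : orderOf x = 3
  hC : Subgroup.centralizer ({x} : Set G) = Subgroup.zpowers x
  ht : orderOf t = 2
  htx : t * x * t⁻¹ = x⁻¹

end Cfsg.Agent.Helper62.SC3
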