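import Cfsg.Agent.Helper62.SC3.Defs

/-!
# S3331 farm — further shared definitions (helper62)

* `pairs3 g`: number of ordered pairs `(a, b)` of elements of order 3 with `a * b = g`.
* `Inv3 S B`: `B` is an `⟨x⟩`-invariant `3'`-subgroup.
* `IsMax3 S M`: `M` is a maximal `⟨x⟩`-invariant `3'`-subgroup.
* `IHsub G`: every proper subgroup of `G` satisfying `Hyp` satisfies `Concl`.
-/

set_option autoImplicit false

namespace Cfsg.Agent.Helper62.SC3

universe u

variable {G : Type u} [Group G]

/-- number of ordered pairs of elements of order 3 with product `g`. -/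
noncomputable def pairs3 (g : G) : ℕ :=
  Nat.card {ab : G × G // orderOf ab.1 = 3 ∧ orderOf ab.2 = 3 ∧ ab.1 * ab.2 = g}

/-- `B` is normalized by `x` and has order prime to 3. -/
def Inv3 (S : Setup G) (B : Subgroup G) : Prop :=
  S.x ∈ Subgroup.normalizer (B : Set G) ∧ (Nat.card B).Coprime 3

/-- `M` is maximal among the `x`-invariant `3'`-subgroups. -/
def IsMax3 (S : Setup G) (M : Subgroup G) : Prop :=
  Inv3 S M ∧ ∀ B : Subgroup G, Inv3 S B → M ≤ B → B = M

/-- the induction hypothesis, for proper subgroups of `G`. -/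
def IHsub (G : Type u) [Group G] : Prop :=
  ∀ L : Subgroup G, L ≠ ⊤ → Hyp ↥L → Concl ↥L

theorem IHsub_of_IH [Finite G] (ih : IH.{u} (Nat.card G)) : IHsub G := by
  intro L hL hyp
  refine ih ↥L ?_ hyp
  by_contra hc
  exact hL (Subgroup.eq_top_of_le_card L (not_lt.mp hc))

end Cfsg.Agent.Helper62.SC3
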